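import Groth.Agent.Lib.HopfIdem23.Smooth
import Groth.Agent.Lib.RegSmooth17.Basic
import Groth.Agent.Lib.SmoothReg17.Basic
import Mathlib.RingTheory.Ideal.KrullsHeightTheorem
import Mathlib.RingTheory.Smooth.Locus
import Mathlib.RingTheory.Ideal.Height

/-!
# Dimension and smoothness of affine algebraic groups over an algebraically closed field
-/

set_option autoImplicit false

universe u v

open TensorProduct Groth.Agent.TruncPoly23

noncomputable section

namespace Groth.Agent.HopfDim23

section translation

variable {k : Type u} [Field k] {A : Type v} [CommRing A] [HopfAlgebra k A]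

open HopfIdem23 in
theorem trans_bijective (g : A →ₐ[k] k) : Function.Bijective (trans g) := by
  have inv : ∀ h : A →ₐ[k] k, Function.LeftInverse (trans h) (trans (h.comp (HopfAlgebra.antipodeAlgHom k A))) :=
    fun h a => AlgHom.congr_fun (trans_trans h) a
  have hb : ∀ h : A →ₐ[k] k, Function.Bijective (trans (h.comp (HopfAlgebra.antipodeAlgHom k A))) := fun h =>
    ⟨(inv h).injective, (inv (h.comp (HopfAlgebra.antipodeAlgHom k A))).surjective⟩
  refine ⟨fun x y hxy => ?_, (inv g).surjective⟩
  obtain ⟨x, rfl⟩ := (hb g).2 x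
  obtain ⟨y, rfl⟩ := (hb g).2 y
  rw [inv g x, inv g y] at hxy
  rw [hxy]

/-- The translation taking the unit to a rational point. -/
def translate (g : A →ₐ[k] k) : A ≃ₐ[k] A := AlgEquiv.ofBijective (HopfIdem23.trans g) (trans_bijective g)

theorem comap_translate_aug (g : A →ₐ[k] k) :
    (aug k A).comap (translate g).toRingEquiv.toRingHom = RingHom.ker g := by
  refine Ideal.ext fun a => ?_
  show Bialgebra.counitAlgHom k A (HopfIdem23.trans g a) = 0 ↔ g a = 0
  rw [HopfIdem23.counit_trans]

end translation

section

variable {K A : Type u} [Field K] [CommRing A] [HopfAlgebra K A] [Algebra.FiniteType K A]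

instance isMaximal_aug : (aug K A).IsMaximal :=
  RingHom.ker_isMaximal_of_surjective _ fun c => ⟨algebraMap K A c, (Bialgebra.counitAlgHom K A).commutes c⟩

variable {ι : Type} [Fintype ι] (b : Module.Basis ι K (aug K A).Cotangent)

theorem sub_sum_mem_sq (a : A) (ha : a ∈ aug K A) : a - ∑ i, tan b i a • gen b i ∈ aug K A ^ 2 := by
  classical
  have hmem : a - ∑ i, tan b i a • gen b i ∈ aug K A :=
    sub_mem ha (Submodule.sum_mem _ fun i _ => Submodule.smul_of_tower_mem _ _ (gen_mem b i))
  rw [← Ideal.toCotangent_eq_zero _ ⟨_, hmem⟩, ← proj_of_mem (k := K) hmem, map_sub, map_sum]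
  simp only [map_smul, proj_gen]
  rw [sub_eq_zero]
  exact (b.sum_repr _).symm

omit [Fintype ι] in
theorem finrank_le_of_span (s : Set A) (hs : s.Finite)
    (h : ∀ a ∈ aug K A, ∃ t ∉ aug K A, t * a ∈ Ideal.span s) (hsub : s ⊆ aug K A) :
    Module.finrank K (aug K A).Cotangent ≤ s.ncard := by
  classical
  have hspan : ∀ x ∈ Ideal.span s, proj (k := K) x ∈ Submodule.span K (proj (k := K) '' s) := by
    intro x hx
    induction hx using Submodule.span_induction with
    | mem x hx => exact Submodule.subset_span ⟨x, hx, rfl⟩
    | zero => simp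
    | add x y _ _ hx hy => rw [map_add]; exact add_mem hx hy
    | smul c x hxm hx =>
      rw [smul_eq_mul, proj_mul, show Bialgebra.counitAlgHom K A x = 0 from Ideal.span_le.2 hsub hxm, zero_smul,
        add_zero]
      exact Submodule.smul_mem _ _ hx
  have htop : Submodule.span K (proj (k := K) '' s) = ⊤ := by
    refine top_le_iff.1 fun z _ => ?_
    obtain ⟨⟨a, ha⟩, rfl⟩ := (aug K A).toCotangent_surjective z
    obtain ⟨t, ht, hta⟩ := h a ha
    have := hspan _ hta
    rw [proj_mul, show Bialgebra.counitAlgHom K A a = 0 from ha, zero_smul, add_zero, proj_of_mem ha] at this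
    have ht' : Bialgebra.counitAlgHom K A t ≠ 0 := ht
    have := Submodule.smul_mem _ (Bialgebra.counitAlgHom K A t)⁻¹ this
    rwa [smul_smul, inv_mul_cancel₀ ht', one_smul] at this
  have hfin := (hs.image (proj (k := K) : A → _))
  have : Fintype (proj (k := K) '' s) := hfin.fintype
  rw [← finrank_top K (aug K A).Cotangent, ← htop]
  refine (finrank_span_le_card _).trans ?_
  rw [← Set.ncard_eq_toFinset_card']
  exact Set.ncard_image_le hs

variable (K A) in
theorem spanFinrank_eq :
    (IsLocalRing.maximalIdeal (Localization.AtPrime (aug K A))).spanFinrank =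
      Module.finrank K (aug K A).Cotangent := by
  classical
  haveI : IsNoetherianRing A := Algebra.FiniteType.isNoetherianRing K A
  haveI := finite_cotangent (k := K) (A := A)
  let b := Module.finBasis K (aug K A).Cotangent
  set L := Localization.AtPrime (aug K A)
  refine le_antisymm ?_ ?_
  · have hle : IsLocalRing.maximalIdeal L ≤ Ideal.span (Set.range fun i => algebraMap A L (gen b i)) ⊔
        IsLocalRing.maximalIdeal L • IsLocalRing.maximalIdeal L := by
      rw [← Localization.AtPrime.map_eq_maximalIdeal, Ideal.map_le_iff_le_comap]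
      intro a ha
      rw [Ideal.mem_comap]
      refine Submodule.mem_sup.2 ⟨algebraMap A L (∑ i, tan b i a • gen b i), ?_,
        algebraMap A L (a - ∑ i, tan b i a • gen b i), ?_, by rw [← map_add, add_sub_cancel]⟩
      · rw [map_sum]
        refine Submodule.sum_mem _ fun i _ => ?_
        rw [Algebra.smul_def, map_mul]
        exact Ideal.mul_mem_left _ _ (Ideal.subset_span ⟨i, rfl⟩)
      · rw [smul_eq_mul, ← Ideal.map_mul, ← pow_two]
        exact Ideal.mem_map_of_mem _ (sub_sum_mem_sq b a ha)
    have hgen : IsLocalRing.maximalIdeal L = Ideal.span (Set.range fun i => algebraMap A L (gen b i)) := by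
      refine le_antisymm (Submodule.le_of_le_smul_of_le_jacobson_bot (IsNoetherian.noetherian _)
        (IsLocalRing.maximalIdeal_le_jacobson _) hle) (Ideal.span_le.2 ?_)
      rintro _ ⟨i, rfl⟩
      rw [← Localization.AtPrime.map_eq_maximalIdeal]
      exact Ideal.mem_map_of_mem _ (gen_mem b i)
    rw [hgen]
    refine (Submodule.spanFinrank_span_le_ncard_of_finite (Set.finite_range _)).trans ?_
    rw [← Set.image_univ]
    exact (Set.ncard_image_le Set.finite_univ).trans (by simp)
  · obtain ⟨s, hcard, hspan⟩ := (IsNoetherian.noetherian (IsLocalRing.maximalIdeal L)).exists_span_finset_card_eq_spanFinrank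
    have hsn : (s : Set L).ncard = (IsLocalRing.maximalIdeal L).spanFinrank := by
      rw [Set.ncard_coe_finset, hcard]
    choose num hnum using fun y : (s : Set L) => IsLocalization.surj (aug K A).primeCompl (y : L)
    have hmem : ∀ y, (num y).1 ∈ aug K A := fun y => by
      rw [← IsLocalization.AtPrime.to_map_mem_maximal_iff L (aug K A), ← hnum y]
      exact Ideal.mul_mem_right _ _ (hspan ▸ Submodule.subset_span y.2)
    refine (finrank_le_of_span (Set.range fun y : (s : Set L) => (num y).1) (Set.finite_range _) ?_ ?_).trans ?_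
    · intro a ha
      have hL : algebraMap A L a ∈ Ideal.map (algebraMap A L) (Ideal.span (Set.range fun y : (s : Set L) => (num y).1)) := by
        have h1 : Ideal.span (s : Set L) ≤ Ideal.map (algebraMap A L) (Ideal.span (Set.range fun y : (s : Set L) => (num y).1)) := by
          refine Ideal.span_le.2 fun y hy => ?_
          rw [SetLike.mem_coe, ← Ideal.mul_unit_mem_iff_mem _ (IsLocalization.map_units L (num ⟨y, hy⟩).2),
            hnum ⟨y, hy⟩]
          exact Ideal.mem_map_of_mem _ (Ideal.subset_span ⟨⟨y, hy⟩, rfl⟩)
        refine h1 (hspan.ge ?_)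
        rw [← Localization.AtPrime.map_eq_maximalIdeal]
        exact Ideal.mem_map_of_mem _ ha
      exact (IsLocalization.algebraMap_mem_map_algebraMap_iff (aug K A).primeCompl L _ _).1 hL
    · rintro _ ⟨y, rfl⟩; exact hmem y
    · rw [← hsn, ← Set.image_univ]
      exact (Set.ncard_image_le Set.finite_univ).trans (by simp [Set.ncard_univ, Nat.card_coe_set_eq])

theorem ringKrullDim_localization :
    ringKrullDim (Localization.AtPrime (aug K A)) = ((aug K A).height : WithBot ℕ∞) :=
  IsLocalization.AtPrime.ringKrullDim_eq_height (aug K A) _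

variable [IsAlgClosed K]

theorem exists_point_of_isMaximal (M : Ideal A) [M.IsMaximal] : ∃ g : A →ₐ[K] K, RingHom.ker g = M := by
  letI := Ideal.Quotient.field M
  haveI : Module.Finite K (A ⧸ M) := finite_of_finite_type_of_isJacobsonRing K (A ⧸ M)
  let e : K ≃ₐ[K] A ⧸ M := AlgEquiv.ofBijective (Algebra.ofId K (A ⧸ M))
    (IsAlgClosed.algebraMap_bijective_of_isIntegral (k := K) (K := A ⧸ M))
  refine ⟨e.symm.toAlgHom.comp (Ideal.Quotient.mkₐ K M), Ideal.ext fun y => ?_⟩
  rw [RingHom.mem_ker]
  show e.symm (Ideal.Quotient.mk M y) = 0 ↔ y ∈ M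
  rw [EmbeddingLike.map_eq_zero_iff, Ideal.Quotient.eq_zero_iff_mem]

variable (K A) in
/-- The dimension is the height of the unit point. -/
theorem ringKrullDim_eq : ringKrullDim A = ((aug K A).height : WithBot ℕ∞) := by
  refine le_antisymm ?_ (Ideal.height_le_ringKrullDim_of_ne_top (Ideal.IsMaximal.ne_top inferInstance))
  rw [ringKrullDim_le_iff_isMaximal_height_le]
  intro M hM
  obtain ⟨g, rfl⟩ := exists_point_of_isMaximal (K := K) M
  rw [← comap_translate_aug g]
  exact le_of_eq (congrArg _ (RingEquiv.height_comap (translate g).toRingEquiv (aug K A)))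

variable (K A) in
theorem ringKrullDim_le : ringKrullDim A ≤ (Module.finrank K (aug K A).Cotangent : WithBot ℕ∞) := by
  haveI : IsNoetherianRing A := Algebra.FiniteType.isNoetherianRing K A
  rw [ringKrullDim_eq K A, ← ringKrullDim_localization, ← spanFinrank_eq]
  exact ringKrullDim_le_spanFinrank_maximalIdeal _

variable (K A) in
theorem ringKrullDim_eq_iff :
    ringKrullDim A = (Module.finrank K (aug K A).Cotangent : WithBot ℕ∞) ↔
      Algebra.FormallySmooth K A := by
  haveI : IsNoetherianRing A := Algebra.FiniteType.isNoetherianRing K A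
  have hreg : ringKrullDim A = (Module.finrank K (aug K A).Cotangent : WithBot ℕ∞) ↔
      IsRegularLocalRing (Localization.AtPrime (aug K A)) := by
    rw [isRegularLocalRing_iff, spanFinrank_eq, ringKrullDim_localization, ← ringKrullDim_eq K A]
    exact eq_comm
  have hfp : Algebra.FinitePresentation K A := Algebra.FinitePresentation.of_finiteType.1 inferInstance
  rw [hreg]
  refine ⟨fun h => ?_, fun h => ?_⟩
  · refine Algebra.smoothLocus_eq_univ_iff.1 (Set.eq_univ_iff_forall.2 fun q => ?_)
    obtain ⟨M, hM, hqM⟩ := Ideal.exists_le_maximal q.asIdeal q.isPrime.ne_top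
    have hM' : (⟨M, hM.isPrime⟩ : PrimeSpectrum A) ∈ Algebra.smoothLocus K A := by
      obtain ⟨g, rfl⟩ := exists_point_of_isMaximal (K := K) M
      have hr : IsRegularLocalRing (Localization.AtPrime (RingHom.ker g)) := by
        haveI := h
        refine IsRegularLocalRing.of_ringEquiv (R := Localization.AtPrime (aug K A)) ?_
        refine (IsLocalization.ringEquivOfRingEquiv (M := (RingHom.ker g).primeCompl)
          (T := (aug K A).primeCompl) (Localization.AtPrime (RingHom.ker g)) _ (translate g).toRingEquiv ?_).symm
        refine SetLike.ext fun a => ?_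
        rw [Submonoid.mem_map]
        constructor
        · rintro ⟨c, hc, rfl⟩
          intro hmem
          refine hc ?_
          rw [SetLike.mem_coe, ← comap_translate_aug g]
          exact hmem
        · intro ha
          refine ⟨(translate g).symm a, fun hmem => ha ?_, (translate g).apply_symm_apply a⟩
          rw [SetLike.mem_coe, ← comap_translate_aug g] at hmem
          exact ((translate g).apply_symm_apply a).symm ▸ hmem
      haveI := hr
      haveI : Algebra.EssFiniteType A (RingHom.ker g).ResidueField := inferInstance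
      haveI : Algebra.EssFiniteType K (RingHom.ker g).ResidueField := Algebra.EssFiniteType.comp K A _
      exact RegSmooth17.isSmoothAt_of_isRegularLocalRing K A (RingHom.ker g)
    exact Algebra.isOpen_smoothLocus.stableUnderGeneralization
      ((PrimeSpectrum.le_iff_specializes q ⟨M, hM.isPrime⟩).1 hqM) hM'
  · haveI : Algebra.Smooth K A := ⟨h, hfp⟩
    exact SmoothReg17.isRegularLocalRing_of_smooth (algebraMap K A) (RingHom.smooth_algebraMap.2 ‹_›) (aug K A)

end

end Groth.Agent.HopfDim23
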