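import Groth.Agent.Lib.HopfDim23.AlgClosed
import Groth.Agent.Lib.VarDim.Alg
import Mathlib.RingTheory.Extension.Cotangent.BaseChange
import Mathlib.RingTheory.Kaehler.TensorProduct
import Mathlib.RingTheory.Flat.EquationalCriterion
import Mathlib.FieldTheory.IsAlgClosed.AlgebraicClosure
import Mathlib.RingTheory.HopfAlgebra.TensorProduct
import Mathlib.Algebra.Field.ULift

/-!
# Dimension and smoothness of affine algebraic groups
-/

set_option autoImplicit false

universe u v w

open TensorProduct Groth.Agent.TruncPoly23

noncomputable section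

namespace Groth.Agent.HopfDim23

/-- Formal smoothness descends along a field extension. -/
theorem formallySmooth_of_tensor {k : Type u} {K : Type w} {A : Type v} [Field k] [Field K] [CommRing A]
    [Algebra k A] [Algebra.FiniteType k A] [Algebra k K] [Algebra.FormallySmooth K (K ⊗[k] A)] :
    Algebra.FormallySmooth k A := by
  let S' := K ⊗[k] A
  letI : Algebra A S' := Algebra.TensorProduct.rightAlgebra
  haveI : Module.FaithfullyFlat A S' :=
    Module.FaithfullyFlat.of_linearEquiv A (A ⊗[k] K)
      { (Algebra.TensorProduct.comm k K A).toAddEquiv with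
        map_smul' := fun s x => by
          rw [Algebra.smul_def, Algebra.smul_def]
          show Algebra.TensorProduct.comm k K A (((1 : K) ⊗ₜ s) * x) =
            (s ⊗ₜ (1 : K)) * Algebra.TensorProduct.comm k K A x
          rw [map_mul, Algebra.TensorProduct.comm_tmul] }
  haveI : IsScalarTower k A S' := .of_algebraMap_eq fun r => by
    show algebraMap k S' r = (1 : K) ⊗ₜ algebraMap k A r
    rw [← Algebra.TensorProduct.includeRight_apply (R := k) (A := K), AlgHom.commutes]
  haveI : Algebra.IsPushout k K A S' := TensorProduct.isPushout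
  haveI : IsNoetherianRing A := Algebra.FiniteType.isNoetherianRing k A
  constructor
  · haveI : Module.Projective S' (S' ⊗[A] Ω[A⁄k]) :=
      Module.Projective.of_equiv (KaehlerDifferential.tensorKaehlerEquiv k K A S').symm
    haveI : Module.Flat A Ω[A⁄k] := Module.Flat.of_flat_tensorProduct _ _ S'
    haveI : Module.FinitePresentation A Ω[A⁄k] := Module.finitePresentation_of_finite A Ω[A⁄k]
    exact Module.Flat.projective_of_finitePresentation
  · haveI : Subsingleton (K ⊗[k] Algebra.H1Cotangent k A) :=
      (Algebra.tensorH1CotangentOfFlat k A K).toEquiv.subsingleton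
    exact Module.FaithfullyFlat.lTensor_reflects_triviality k K _

theorem ringKrullDim_tensor {k : Type u} {K : Type w} {A : Type v} [Field k] [Field K] [CommRing A]
    [Algebra k A] [Algebra k K] [Algebra.IsAlgebraic k K] : ringKrullDim (K ⊗[k] A) = ringKrullDim A := by
  let i : A →ₐ[k] K ⊗[k] A := Algebra.TensorProduct.includeRight
  letI : Algebra A (K ⊗[k] A) := i.toRingHom.toAlgebra
  have : Algebra.IsIntegral A (K ⊗[k] A) := by
    refine ⟨fun x => ?_⟩
    induction x with
    | zero => exact isIntegral_zero
    | add x y hx hy => exact hx.add hy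
    | tmul c a =>
      rw [show c ⊗ₜ[k] a = (c ⊗ₜ[k] (1 : A)) * algebraMap A (K ⊗[k] A) a by
        rw [RingHom.algebraMap_toAlgebra]; simp [i, Algebra.TensorProduct.tmul_mul_tmul]]
      refine IsIntegral.mul ?_ isIntegral_algebraMap
      have hc : IsIntegral k c := (Algebra.IsAlgebraic.isAlgebraic c).isIntegral
      obtain ⟨f, hf, hfc⟩ := hc.map (Algebra.TensorProduct.includeLeft : K →ₐ[k] K ⊗[k] A)
      refine ⟨f.map (algebraMap k A), hf.map _, ?_⟩
      rw [Polynomial.eval₂_map]
      have e : (algebraMap A (K ⊗[k] A)).comp (algebraMap k A) = algebraMap k (K ⊗[k] A) :=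
        RingHom.ext fun r => i.commutes r
      rw [e]
      exact hfc
  refine VarDim.ringKrullDim_eq_of_isIntegral ?_
  exact Algebra.TensorProduct.includeRight_injective (algebraMap k K).injective

section

variable {k : Type u} {K : Type w} {A : Type v} [Field k] [Field K] [Algebra k K] [CommRing A]
  [HopfAlgebra k A] [Algebra.FiniteType k A]

theorem counit_tmul' (c : K) (a : A) :
    Bialgebra.counitAlgHom K (K ⊗[k] A) (c ⊗ₜ[k] a) = Bialgebra.counitAlgHom k A a • c := by
  simp

theorem finrank_cotangent_tensor :
    Module.finrank K (aug K (K ⊗[k] A)).Cotangent = Module.finrank k (aug k A).Cotangent := by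
  classical
  haveI : IsNoetherianRing A := Algebra.FiniteType.isNoetherianRing k A
  haveI := finite_cotangent (k := k) (A := A)
  let b := Module.finBasis k (aug k A).Cotangent
  let v : Fin (Module.finrank k (aug k A).Cotangent) → (aug K (K ⊗[k] A)).Cotangent :=
    fun i => proj (k := K) ((1 : K) ⊗ₜ[k] gen b i)
  let T : Fin (Module.finrank k (aug k A).Cotangent) → (K ⊗[k] A →ₗ[K] K) := fun i =>
    (TensorProduct.AlgebraTensorModule.rid k K K).toLinearMap ∘ₗ (tan b i).baseChange K
  have hT : ∀ i c a, T i (c ⊗ₜ[k] a) = tan b i a • c := fun i c a => by simp [T]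
  have hTmul : ∀ i x y, T i (x * y) = Bialgebra.counitAlgHom K (K ⊗[k] A) x * T i y +
      Bialgebra.counitAlgHom K (K ⊗[k] A) y * T i x := by
    intro i x y
    induction x with
    | zero => simp
    | add x x' hx hx' =>
      simp only [add_mul, map_add, hx, hx', mul_add, -Bialgebra.counitAlgHom_apply]
      ring
    | tmul c a =>
      induction y with
      | zero => simp
      | add y y' hy hy' =>
        simp only [mul_add, map_add, hy, hy', add_mul, -Bialgebra.counitAlgHom_apply]
        ring
      | tmul c' a' =>
        rw [Algebra.TensorProduct.tmul_mul_tmul, hT, hT, hT, counit_tmul', counit_tmul', tan_mul]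
        simp only [Algebra.smul_def, map_add, map_mul]
        ring
  have hT2 : ∀ i, ∀ z ∈ aug K (K ⊗[k] A) ^ 2, T i z = 0 := by
    intro i z hz
    rw [pow_two] at hz
    induction hz using Submodule.mul_induction_on' with
    | mem_mul_mem x hx y hy =>
      rw [hTmul, show Bialgebra.counitAlgHom K (K ⊗[k] A) x = 0 from hx,
        show Bialgebra.counitAlgHom K (K ⊗[k] A) y = 0 from hy, zero_mul, zero_mul, add_zero]
    | add x _ y _ hx hy => rw [map_add, hx, hy, add_zero]
  have hproj : ∀ x : K ⊗[k] A, proj (k := K) x = ∑ i, T i x • v i := by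
    intro x
    induction x with
    | zero => simp
    | add x y hx hy => simp only [map_add, add_smul, Finset.sum_add_distrib, hx, hy]
    | tmul c a =>
      have e : c ⊗ₜ[k] a = c • ((1 : K) ⊗ₜ[k] a) := by rw [TensorProduct.smul_tmul', smul_eq_mul, mul_one]
      simp only [hT]
      rw [e, map_smul]
      have key : proj (k := K) ((1 : K) ⊗ₜ[k] a) = ∑ i, algebraMap k K (tan b i a) • v i := by
        set r := a - algebraMap k A (Bialgebra.counitAlgHom k A a) with hr
        have h2 : r - ∑ i, tan b i a • gen b i ∈ aug k A ^ 2 := by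
          have hmem : r - ∑ i, tan b i a • gen b i ∈ aug k A :=
            sub_mem (sub_counit_mem a) (Submodule.sum_mem _ fun i _ => Submodule.smul_of_tower_mem _ _ (gen_mem b i))
          rw [← Ideal.toCotangent_eq_zero _ ⟨_, hmem⟩, ← proj_of_mem (k := k) hmem, map_sub, map_sum]
          simp only [map_smul, proj_gen]
          rw [show proj (k := k) r = proj (k := k) a by
            rw [proj_of_mem (k := k) (sub_counit_mem a)]; rfl, sub_eq_zero]
          exact (b.sum_repr _).symm
        have h2' : proj (k := K) ((1 : K) ⊗ₜ[k] (r - ∑ i, tan b i a • gen b i)) = 0 := by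
          have hm : (1 : K) ⊗ₜ[k] (r - ∑ i, tan b i a • gen b i) ∈ aug K (K ⊗[k] A) ^ 2 := by
            have hle : (aug k A).map (Algebra.TensorProduct.includeRight : A →ₐ[k] K ⊗[k] A) ≤ aug K (K ⊗[k] A) := by
              refine Ideal.map_le_iff_le_comap.2 fun x hx => ?_
              rw [Ideal.mem_comap, RingHom.mem_ker, Algebra.TensorProduct.includeRight_apply, counit_tmul',
                show Bialgebra.counitAlgHom k A x = 0 from hx, zero_smul]
            refine Ideal.pow_right_mono hle 2 ?_
            rw [← Ideal.map_pow]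
            exact Ideal.mem_map_of_mem _ h2
          rw [proj_of_mem (k := K) (Ideal.pow_le_self two_ne_zero hm), Ideal.toCotangent_eq_zero]
          exact hm
        have h1 : proj (k := K) ((1 : K) ⊗ₜ[k] algebraMap k A (Bialgebra.counitAlgHom k A a)) = 0 := by
          rw [proj_apply, Ideal.toCotangent_eq_zero]
          simp [Algebra.algebraMap_eq_smul_one, Algebra.TensorProduct.one_def, TensorProduct.smul_tmul']
        rw [show a = algebraMap k A (Bialgebra.counitAlgHom k A a) + (r - ∑ i, tan b i a • gen b i) +
          ∑ i, tan b i a • gen b i by rw [hr]; ring, TensorProduct.tmul_add, TensorProduct.tmul_add, map_add,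
          map_add, h1, h2', zero_add, zero_add, TensorProduct.tmul_sum, map_sum]
        rw [show algebraMap k A (Bialgebra.counitAlgHom k A a) + (r - ∑ i, tan b i a • gen b i) +
          ∑ i, tan b i a • gen b i = a by rw [hr]; ring]
        refine Finset.sum_congr rfl fun i _ => ?_
        rw [TensorProduct.tmul_smul, ← algebraMap_smul K (tan b i a) ((1 : K) ⊗ₜ[k] gen b i), map_smul]
      rw [key, Finset.smul_sum]
      refine Finset.sum_congr rfl fun i _ => ?_
      rw [smul_smul, Algebra.smul_def (tan b i a) c, mul_comm]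
  let L : (aug K (K ⊗[k] A)).Cotangent → Fin (Module.finrank k (aug k A).Cotangent) → K := fun z i =>
    T i ((aug K (K ⊗[k] A)).toCotangent_surjective z).choose
  have hL : ∀ x (hx : x ∈ aug K (K ⊗[k] A)) i, L ((aug K (K ⊗[k] A)).toCotangent ⟨x, hx⟩) i = T i x := by
    intro x hx i
    have h := ((aug K (K ⊗[k] A)).toCotangent_surjective ((aug K (K ⊗[k] A)).toCotangent ⟨x, hx⟩)).choose_spec
    rw [Ideal.toCotangent_eq] at h
    exact sub_eq_zero.1 ((map_sub (T i) _ _).symm.trans (hT2 i _ h))
  have hli : LinearIndependent K v := by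
    rw [Fintype.linearIndependent_iff]
    intro g hg j
    have hx : ∑ i, g i • ((1 : K) ⊗ₜ[k] gen b i) ∈ aug K (K ⊗[k] A) :=
      Submodule.sum_mem _ fun i _ => Submodule.smul_of_tower_mem _ _ (by
        rw [RingHom.mem_ker, counit_tmul', show Bialgebra.counitAlgHom k A (gen b i) = 0 from gen_mem b i, zero_smul])
    have h0 : (aug K (K ⊗[k] A)).toCotangent ⟨_, hx⟩ = 0 := by
      rw [← proj_of_mem (k := K) hx, map_sum]
      simpa only [map_smul] using hg
    have hj := hL _ hx j
    rw [h0, ← map_zero (aug K (K ⊗[k] A)).toCotangent,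
      show (0 : aug K (K ⊗[k] A)) = ⟨0, zero_mem _⟩ from rfl, hL, map_zero, map_sum] at hj
    simp only [map_smul, hT] at hj
    rw [Finset.sum_eq_single j] at hj
    · simpa [tan, proj_gen] using hj.symm
    · intro i _ hij
      simp [tan, proj_gen, Finsupp.single_apply, hij]
    · simp
  have hsp : ⊤ ≤ Submodule.span K (Set.range v) := fun z _ => by
    obtain ⟨⟨x, hx⟩, rfl⟩ := (aug K (K ⊗[k] A)).toCotangent_surjective z
    rw [← proj_of_mem (k := K) hx, hproj]
    exact Submodule.sum_mem _ fun i _ => Submodule.smul_mem _ _ (Submodule.subset_span ⟨i, rfl⟩)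
  rw [Module.finrank_eq_card_basis (Module.Basis.mk hli hsp), Fintype.card_fin]

end

section main

variable (k : Type u) (A : Type v) [Field k] [CommRing A] [HopfAlgebra k A] [Algebra.FiniteType k A]

/-- An algebraic closure in a large enough universe. -/
abbrev Clos : Type max u v := ULift.{v} (AlgebraicClosure k)

instance : IsAlgClosed (Clos.{u, v} k) := by
  refine IsAlgClosed.of_exists_root _ fun p _ hp => ?_
  let e : Clos.{u, v} k ≃+* AlgebraicClosure k := ULift.ringEquiv
  obtain ⟨x, hx⟩ := IsAlgClosed.exists_root (p.map e.toRingHom)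
    (by rw [Polynomial.degree_map]; exact (Polynomial.degree_pos_of_irreducible hp).ne')
  refine ⟨e.symm x, ?_⟩
  apply e.injective
  rw [map_zero, ← hx.eq_zero, Polynomial.eval_map]
  show e.toRingHom (p.eval (e.symm x)) = _
  rw [← Polynomial.eval₂_at_apply]
  exact congrArg (fun y => Polynomial.eval₂ e.toRingHom y p) (e.apply_symm_apply x)

instance : Algebra.IsAlgebraic k (Clos.{u, v} k) :=
  (ULift.algEquiv (R := k) (A := AlgebraicClosure k)).symm.isAlgebraic

theorem dim_facts (K : Type max u v) [Field K] [IsAlgClosed K] [Algebra k K] [Algebra.IsAlgebraic k K] :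
    ringKrullDim A ≤ (Module.finrank k (aug k A).Cotangent : WithBot ℕ∞) ∧
    (ringKrullDim A = (Module.finrank k (aug k A).Cotangent : WithBot ℕ∞) ↔ Algebra.FormallySmooth k A) := by
  have h1 := ringKrullDim_tensor (k := k) (K := K) (A := A)
  have h2 := finrank_cotangent_tensor (k := k) (K := K) (A := A)
  have h3 := ringKrullDim_le.{max u v} K (K ⊗[k] A)
  have h4 := ringKrullDim_eq_iff.{max u v} K (K ⊗[k] A)
  rw [h1, h2] at h3 h4
  exact ⟨h3, h4.trans ⟨fun h => formallySmooth_of_tensor (K := K), fun h => inferInstance⟩⟩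

theorem ringKrullDim_le_cotangent :
    ringKrullDim A ≤ (Module.finrank k (aug k A).Cotangent : WithBot ℕ∞) :=
  (dim_facts k A (Clos.{u, v} k)).1

theorem ringKrullDim_eq_cotangent_iff :
    ringKrullDim A = (Module.finrank k (aug k A).Cotangent : WithBot ℕ∞) ↔ Algebra.FormallySmooth k A :=
  (dim_facts k A (Clos.{u, v} k)).2

end main

end Groth.Agent.HopfDim23
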